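import Cfsg.Agent.H964.Rg.Slo
import Cfsg.Agent.H522.Rg.PolF

/-!
# S3691, orthogonal groups, `m ≥ 5`: no extension fields for the sections of dimension `2 m - 2` (helper71)
-/

set_option autoImplicit false
set_option linter.unusedSectionVars false

namespace Cfsg.Agent.H71.Rg

open Module QuadraticMap Cfsg Cfsg.Geo Cfsg.Agent.LieClassical.OrthCore Cfsg.Agent.LieClassical.OrthTrans
  Cfsg.Agent.H454.Reg Cfsg.Agent.H884.El Cfsg.Agent.H955 Cfsg.Agent.H954.TSing Cfsg.Agent.H193.Dg Cfsg.Agent.H851.Dg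
  Cfsg.Agent.H449.Reg
open Cfsg.Agent.H951 (fx cm Inv)
open Cfsg.Agent.H278.Cov (Red Ext Num)
open scoped MatrixGroups Matrix

universe u v

section abs

variable {F : Type u} [Field F] [Fintype F] {V : Type v} [AddCommGroup V] [Module F V] [FiniteDimensional F V]
  {Q : QuadraticForm F V} {H : Subgroup (V ≃ₗ[F] V)}

theorem exists_elt_of_dvd {r : ℕ} (hr : r.Prime) (h : r ∣ Nat.card H) : ∃ x ∈ H, x ^ r = 1 ∧ x ≠ 1 := by
  have hV : Finite V := Module.finite_of_finite F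
  have hfin : Finite (V ≃ₗ[F] V) := Finite.of_injective (fun g : V ≃ₗ[F] V => (g : V → V)) DFunLike.coe_injective
  have := Fact.mk hr
  obtain ⟨x, hx⟩ := exists_prime_orderOf_dvd_card' r h
  have ho : orderOf (x : V ≃ₗ[F] V) = r := by rw [Subgroup.orderOf_coe, hx]
  refine ⟨x, x.2, ?_, ?_⟩
  · rw [← ho]
    exact pow_orderOf_eq_one _
  · intro h1
    rw [h1, orderOf_one] at ho
    exact hr.one_lt.ne ho

theorem fx_odd_of (hQ : Nondeg Q) (hH : ∀ h ∈ H, ∀ u v, polar Q (h u) (h v) = polar Q u v) (hc : (2 : F) = 0 ∨ H ≤ O Q)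
    {e r : ℕ} (hr : PP (Nat.card F) e r) (he : Odd e) (he3 : 3 ≤ e) (hn : finrank F V < 4 * e) {x : V ≃ₗ[F] V}
    (hx : x ∈ H) (hxr : x ^ r = 1) (hx1 : x ≠ 1) : finrank F (fx (x : Module.End F V)) + 2 * e = finrank F V := by
  rcases hc with h2 | hO
  · exact H522.Rg.fx_odd h2 hQ (hH x hx) hr he he3 hn hxr hx1
  · have hI : Iso Q (x : Module.End F V) r :=
      Iso.mk' hr (by omega) (H522.Rg.coe_pow_one hxr) (fun v => mem_O.1 (hO hx) v)
    have h1 := (hI.odd_case hQ (H522.Rg.coe_ne_one hx1) hr he hn).1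
    have h4 := H522.Rg.rank_nul (x : Module.End F V)
    omega

theorem not_two_of (hQ : Nondeg Q) (hH : ∀ h ∈ H, ∀ u v, polar Q (h u) (h v) = polar Q u v) (hc : (2 : F) = 0 ∨ H ≤ O Q)
    {e r : ℕ} (hr : PP (Nat.card F) e r) (he : Odd e) (he3 : 3 ≤ e) (hn : finrank F V < 4 * e) (hrH : r ∣ Nat.card H) :
    ¬ AExt 2 H := by
  intro hA
  rcases hc with h2 | hO
  · exact H522.Rg.sp_not_two_odd h2 hQ hH hr he he3 hn hrH hA
  · exact H522.Rg.o_not_two_odd hQ hO hr he he3 hn hrH hA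

/-- (A) no extension fields for the sections of dimension `2 m - 2` -/
theorem no_ext (hQ : Nondeg Q) (hH : ∀ h ∈ H, ∀ u v, polar Q (h u) (h v) = polar Q u v) (hc : (2 : F) = 0 ∨ H ≤ O Q)
    (hirr : ¬ ∃ W : Submodule F V, W ≠ ⊥ ∧ W ≠ ⊤ ∧ ∀ h ∈ H, ∀ w ∈ W, h w ∈ W)
    {m r2 s : ℕ} (hm : 5 ≤ m) (hn : finrank F V = 2 * m - 2) (hr2 : PP (Nat.card F) (2 * m - 2) r2) (h2 : r2 ∣ Nat.card H)
    (hk : (∃ r4, PP (Nat.card F) (2 * m - 4) r4 ∧ r4 ∣ Nat.card H) ∨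
      (Odd m ∧ ∃ t, PP (Nat.card F) (m - 2) t ∧ t ∣ Nat.card H) ∨
      (Even m ∧ (∃ t, PP (Nat.card F) (m - 1) t ∧ t ∣ Nat.card H) ∧ ∃ t, PP (Nat.card F) (m - 3) t ∧ t ∣ Nat.card H))
    (hs : s.Prime) (hsd : s ∣ 2 * m - 2) : ¬ AExt s H := by
  intro hA
  have hs1 : s = 2 ∨ s ≤ m - 1 := by
    clear hk
    rw [show 2 * m - 2 = 2 * (m - 1) by omega] at hsd
    rcases hs.dvd_mul.1 hsd with h | h
    · exact Or.inl ((Nat.prime_dvd_prime_iff_eq hs Nat.prime_two).1 h)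
    · exact Or.inr (Nat.le_of_dvd (by omega) h)
  have hs_two : ∀ k, s ∣ 2 ^ k → s = 2 := fun k h => (Nat.prime_dvd_prime_iff_eq hs Nat.prime_two).1 (hs.dvd_of_dvd_pow h)
  rcases hk with ⟨r4, hr4, h4⟩ | ⟨hmo, t, ht, htH⟩ | ⟨hme, ⟨t, ht, htH⟩, t3, ht3, ht3H⟩
  · obtain ⟨x, hx, hxr, hx1⟩ := exists_elt_of_dvd hr4.prime h4
    have hlt := hr4.lt (by omega)
    have h5 := H522.Rg.fx_even hr4 (by omega) (by omega) hxr hx1
    have h6 := hA.dvd_fx hx hr4.prime hxr (by omega)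
    rw [show finrank F (fx (x : Module.End F V)) = 2 ^ 1 by omega] at h6
    obtain rfl := hs_two _ h6
    refine H522.Rg.sp_not_two hQ hH hr2 hr4 (by omega) (by omega) ?_ ⟨m - 1, by omega⟩ ⟨m - 2, by omega⟩ (by omega) (by omega)
      ⟨m - 2, by omega⟩ h2 h4 hA
    intro W hW
    by_contra hcon
    push Not at hcon
    exact hirr ⟨W, hcon.1, hcon.2, hW⟩
  · obtain ⟨x, hx, hxr, hx1⟩ := exists_elt_of_dvd ht.prime htH
    have ho : Odd (m - 2) := by
      obtain ⟨k, hk⟩ := hmo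
      exact ⟨k - 1, by omega⟩
    have hlt := Nat.le_of_dvd (by have := ht.prime.two_le; omega) (ht.two_mul_dvd (by omega) ho)
    have h5 := fx_odd_of hQ hH hc ht ho (by omega) (by omega) hx hxr hx1
    have h6 := hA.dvd_fx hx ht.prime hxr (by omega)
    rw [show finrank F (fx (x : Module.End F V)) = 2 ^ 1 by omega] at h6
    obtain rfl := hs_two _ h6
    exact not_two_of hQ hH hc ht ho (by omega) (by omega) htH hA
  · obtain ⟨x, hx, hxr, hx1⟩ := exists_elt_of_dvd ht3.prime ht3H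
    have ho : Odd (m - 1) := by
      obtain ⟨k, hk⟩ := hme
      exact ⟨k - 1, by omega⟩
    have ho3 : Odd (m - 3) := by
      obtain ⟨k, hk⟩ := hme
      exact ⟨k - 2, by omega⟩
    have hm6 : 6 ≤ m := by
      obtain ⟨k, hk⟩ := hme
      omega
    have hlt := Nat.le_of_dvd (by have := ht3.prime.two_le; omega) (ht3.two_mul_dvd (by omega) ho3)
    have h5 := fx_odd_of hQ hH hc ht3 ho3 (by omega) (by omega) hx hxr hx1
    have h6 := hA.dvd_fx hx ht3.prime hxr (by omega)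
    rw [show finrank F (fx (x : Module.End F V)) = 2 ^ 2 by omega] at h6
    obtain rfl := hs_two _ h6
    exact not_two_of hQ hH hc ht ho (by omega) (by omega) htH hA

end abs

end Cfsg.Agent.H71.Rg
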