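import Mathlib

/-!
# The reciprocals of the primes in `((log n)², √n]` (helper71, task 4631 for S5714)

* `block` : `∑ 1/p ≥ 1 / (8 (i + 1))`, `4 ^ i < p ≤ 4 ^ (i + 1)`, `i ≥ 8` (Chebyshev);
* `primes` : the sum over `((log n)², √n]` tends to infinity.
-/

set_option autoImplicit false

namespace Cfsg.Agent.H71.Rg

open Finset Real

theorem theta_sub {a b : ℕ} (h : a ≤ b) : Chebyshev.theta b - Chebyshev.theta a =
    ∑ p ∈ (Ioc a b).filter Nat.Prime, Real.log p := by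
  unfold Chebyshev.theta
  rw [Nat.floor_natCast, Nat.floor_natCast, sum_filter, sum_filter, sum_filter,
    ← Finset.sum_Ioc_consecutive _ (Nat.zero_le a) h]
  ring

theorem nine_le {i : ℕ} (hi : 8 ≤ i) : 9 * (i + 1) ≤ 2 ^ i := by
  induction i, hi using Nat.le_induction with
  | base => norm_num
  | succ n hn ih => rw [pow_succ]; omega

theorem block {i : ℕ} (hi : 8 ≤ i) :
    1 / (8 * ((i : ℝ) + 1)) ≤ ∑ p ∈ (Ioc (4 ^ i) (4 ^ (i + 1))).filter Nat.Prime, (1 : ℝ) / p := by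
  have hl2 : 0 < Real.log 2 := Real.log_pos (by norm_num)
  have hi0 : (0 : ℝ) ≤ i := Nat.cast_nonneg i
  have hlog4 : Real.log 4 = 2 * Real.log 2 := by
    have : (4 : ℝ) = 2 ^ 2 := by norm_num
    rw [this, Real.log_pow]
    norm_num
  have hlogp : ∀ k : ℕ, Real.log ((4 : ℝ) ^ k) = 2 * k * Real.log 2 := by
    intro k
    rw [Real.log_pow, hlog4]
    ring
  -- the lower bound of `θ(4 N) - θ(N)`
  have h1 := Chebyshev.theta_ge (4 ^ (i + 1))
  have h2 := Chebyshev.theta_le_log4_mul_x (x := ((4 ^ i : ℕ) : ℝ)) (Nat.cast_nonneg _)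
  have hs : √(((4 ^ (i + 1) : ℕ) : ℝ)) = 2 * 2 ^ i := by
    have : (((4 ^ (i + 1) : ℕ) : ℝ)) = (2 * 2 ^ i) ^ 2 := by
      push_cast
      rw [mul_pow, ← pow_mul, mul_comm i 2, pow_mul]
      norm_num
      ring
    rw [this, Real.sqrt_sq (by positivity)]
  have h3 : Real.log (((4 ^ (i + 1) : ℕ) : ℝ) + 1) ≤ 2 * (i + 2) * Real.log 2 := by
    have h4 := hlogp (i + 2)
    push_cast at h4
    rw [← h4]
    apply Real.log_le_log (by positivity)
    push_cast
    have : (1 : ℝ) ≤ 4 ^ (i + 1) := one_le_pow₀ (by norm_num)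
    rw [pow_succ (4 : ℝ) (i + 1)]
    linarith
  have h4 : Real.log (((4 ^ (i + 1) : ℕ) : ℝ)) = 2 * (i + 1) * Real.log 2 := by
    push_cast
    rw [hlogp]
    push_cast
    ring
  rw [hs, h4] at h1
  have h5 : ((4 ^ (i + 1) : ℕ) : ℝ) = 4 * 4 ^ i := by
    push_cast
    ring
  have h6 : ((4 ^ i : ℕ) : ℝ) = 4 ^ i := by push_cast; ring
  have h9 : (9 : ℝ) * (i + 1) ≤ 2 ^ i := by exact_mod_cast nine_le hi
  have h10 : (4 : ℝ) ^ i = 2 ^ i * 2 ^ i := by rw [← mul_pow]; norm_num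
  have hN : 2 * ((i : ℝ) + 2) + 8 * 2 ^ i * (i + 1) ≤ 4 ^ i := by
    rw [h10]
    have h11 : (0 : ℝ) < 2 ^ i := by positivity
    nlinarith
  have h7 : 4 ^ i * Real.log 2 ≤ Chebyshev.theta ((4 ^ (i + 1) : ℕ) : ℝ) - Chebyshev.theta ((4 ^ i : ℕ) : ℝ) := by
    rw [hlog4, h6] at h2
    have e1 : ((4 ^ (i + 1) : ℕ) : ℝ) * Real.log 2 - 2 * (i + 2) * Real.log 2 -
        2 * (2 * 2 ^ i) * (2 * (i + 1) * Real.log 2) ≤ Chebyshev.theta ((4 ^ (i + 1) : ℕ) : ℝ) := by linarith
    rw [h5] at e1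
    rw [← h5] at e1
    have e2 : Chebyshev.theta ((4 ^ i : ℕ) : ℝ) ≤ 2 * Real.log 2 * 4 ^ i := by rw [h6]; exact h2
    rw [h5] at e1
    have e3 := mul_le_mul_of_nonneg_right hN hl2.le
    rw [h5]
    nlinarith
  rw [theta_sub (Nat.pow_le_pow_right (by norm_num) (Nat.le_succ i))] at h7
  -- compare termwise
  have hD : (0 : ℝ) < 4 * 4 ^ i * (2 * (i + 1) * Real.log 2) := by positivity
  have h8 : ∀ p ∈ (Ioc (4 ^ i) (4 ^ (i + 1))).filter Nat.Prime,
      Real.log p / (4 * 4 ^ i * (2 * (i + 1) * Real.log 2)) ≤ (1 : ℝ) / p := by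
    intro p hp
    rw [mem_filter, mem_Ioc] at hp
    have hp0 : (0 : ℝ) < p := by exact_mod_cast hp.2.pos
    have hple : (p : ℝ) ≤ ((4 ^ (i + 1) : ℕ) : ℝ) := by exact_mod_cast hp.1.2
    have hlp : Real.log p ≤ 2 * (i + 1) * Real.log 2 := by
      rw [← h4]
      exact Real.log_le_log hp0 hple
    have hlp0 : 0 ≤ Real.log p := Real.log_nonneg (by exact_mod_cast hp.2.one_le)
    rw [h5] at hple
    rw [div_le_div_iff₀ hD hp0, one_mul, mul_comm (Real.log p)]
    exact mul_le_mul hple hlp hlp0 (by positivity)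
  calc 1 / (8 * ((i : ℝ) + 1)) = 4 ^ i * Real.log 2 / (4 * 4 ^ i * (2 * (i + 1) * Real.log 2)) := by
        have : (4 : ℝ) ^ i ≠ 0 := by positivity
        have h' : (i : ℝ) + 1 ≠ 0 := by positivity
        field_simp
        norm_num
    _ ≤ (∑ p ∈ (Ioc (4 ^ i) (4 ^ (i + 1))).filter Nat.Prime, Real.log p) /
        (4 * 4 ^ i * (2 * (i + 1) * Real.log 2)) := by gcongr
    _ = ∑ p ∈ (Ioc (4 ^ i) (4 ^ (i + 1))).filter Nat.Prime,
        Real.log p / (4 * 4 ^ i * (2 * (i + 1) * Real.log 2)) := Finset.sum_div _ _ _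
    _ ≤ _ := Finset.sum_le_sum h8

theorem blocks {a b : ℕ} (ha : 8 ≤ a) (hab : a ≤ b) :
    ((harmonic b : ℝ) - harmonic a) / 8 ≤ ∑ p ∈ (Ioc (4 ^ a) (4 ^ b)).filter Nat.Prime, (1 : ℝ) / p := by
  induction b, hab using Nat.le_induction with
  | base => simp
  | succ n hn ih =>
    have h1 : ∑ p ∈ (Ioc (4 ^ a) (4 ^ (n + 1))).filter Nat.Prime, (1 : ℝ) / p =
        ∑ p ∈ (Ioc (4 ^ a) (4 ^ n)).filter Nat.Prime, (1 : ℝ) / p +
          ∑ p ∈ (Ioc (4 ^ n) (4 ^ (n + 1))).filter Nat.Prime, (1 : ℝ) / p := by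
      rw [sum_filter, sum_filter, sum_filter, Finset.sum_Ioc_consecutive _
        (Nat.pow_le_pow_right (by norm_num) hn) (Nat.pow_le_pow_right (by norm_num) (Nat.le_succ n))]
    have h2 := block (i := n) (le_trans ha hn)
    rw [h1, harmonic_succ]
    push_cast
    have h3 : (1 : ℝ) / (8 * ((n : ℝ) + 1)) = ((n : ℝ) + 1)⁻¹ / 8 := by
      have : (n : ℝ) + 1 ≠ 0 := by positivity
      field_simp
    rw [h3] at h2
    linarith

/-- **The sum of the reciprocals of the primes in `((log n)², √n]` tends to infinity.** -/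
theorem primes : ∀ B : ℝ, ∃ N : ℕ, ∀ n : ℕ, N ≤ n →
    B ≤ ∑ p ∈ (Finset.Ioc ⌈Real.log n ^ 2⌉₊ (Nat.sqrt n)).filter Nat.Prime, (1 : ℝ) / p := by
  intro B
  refine ⟨⌈Real.exp (Real.exp (16 * |B| + 11))⌉₊, fun n hn => ?_⟩
  have hB := le_abs_self B
  have hB0 := abs_nonneg B
  have hl2 : 0 < Real.log 2 := Real.log_pos (by norm_num)
  have hl2' : Real.log 2 < 0.6931471808 := Real.log_two_lt_d9
  have hlog4 : Real.log 4 = 2 * Real.log 2 := by
    have : (4 : ℝ) = 2 ^ 2 := by norm_num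
    rw [this, Real.log_pow]
    norm_num
  have hlog16 : Real.log 16 = 4 * Real.log 2 := by
    have : (16 : ℝ) = 2 ^ 4 := by norm_num
    rw [this, Real.log_pow]
    norm_num
  have hn1 : Real.exp (Real.exp (16 * |B| + 11)) ≤ n := (Nat.le_ceil _).trans (by exact_mod_cast hn)
  have hn0 : (0 : ℝ) < n := (Real.exp_pos _).trans_le hn1
  have hL : Real.exp (16 * |B| + 11) ≤ Real.log n := by
    rw [Real.le_log_iff_exp_le hn0]
    exact hn1
  have hl0 : 0 < Real.log n := (Real.exp_pos _).trans_le hL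
  obtain ⟨t, ht⟩ : ∃ t, t = Real.log (Real.log n) := ⟨_, rfl⟩
  have htT : 16 * |B| + 11 ≤ t := by
    rw [ht, Real.le_log_iff_exp_le hl0]
    exact hL
  have het : Real.exp t = Real.log n := by rw [ht, Real.exp_log hl0]
  have ht0 : 0 ≤ t := by linarith
  have hquad : 1 + t + t ^ 2 / 2 ≤ Real.log n := by
    rw [← het]
    exact Real.quadratic_le_exp_of_nonneg ht0
  -- the upper end
  obtain ⟨L, hLdef⟩ : ∃ L, L = Nat.log 4 (Nat.sqrt n) := ⟨_, rfl⟩
  have hnpos : 0 < n := by exact_mod_cast hn0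
  have hsq : 0 < Nat.sqrt n := Nat.sqrt_pos.2 hnpos
  have hL1 : 4 ^ L ≤ Nat.sqrt n := by rw [hLdef]; exact Nat.pow_log_le_self 4 hsq.ne'
  have hL2 : Nat.sqrt n < 4 ^ (L + 1) := by rw [hLdef]; exact Nat.lt_pow_succ_log_self (by norm_num) _
  have hL3 : Real.log n ≤ (L + 1) * Real.log 16 := by
    have h1 : n < 16 ^ (L + 1) := by
      have h2 := Nat.lt_succ_sqrt' n
      calc n < (Nat.sqrt n).succ ^ 2 := h2
        _ ≤ (4 ^ (L + 1)) ^ 2 := Nat.pow_le_pow_left hL2 2
        _ = 16 ^ (L + 1) := by rw [← pow_mul, mul_comm (L + 1) 2, pow_mul]; norm_num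
    have h3 : (n : ℝ) ≤ 16 ^ (L + 1) := by exact_mod_cast h1.le
    have h4 := Real.log_le_log hn0 h3
    rw [Real.log_pow] at h4
    push_cast at h4
    exact h4
  -- the lower end
  obtain ⟨x, hx⟩ : ∃ x, x = ⌈Real.log n ^ 2⌉₊ := ⟨_, rfl⟩
  have hx1 : Real.log n ^ 2 ≤ x := by rw [hx]; exact Nat.le_ceil _
  have hx2 : (x : ℝ) < Real.log n ^ 2 + 1 := by rw [hx]; exact Nat.ceil_lt_add_one (by positivity)
  have hlog12 : 12 ≤ Real.log n := by nlinarith
  have hx3 : 1 < x := by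
    have : (1 : ℝ) < x := by nlinarith
    exact_mod_cast this
  obtain ⟨a, ha⟩ : ∃ a, a = Nat.clog 4 x := ⟨_, rfl⟩
  have ha1 : x ≤ 4 ^ a := by rw [ha]; exact Nat.le_pow_clog (by norm_num) _
  have ha2 : 4 ^ (a - 1) < x := by rw [ha]; exact Nat.pow_pred_clog_lt_self (by norm_num) hx3
  have ha3 : (a : ℝ) ≤ 2 + 2 * t := by
    have h1 : ((4 : ℝ)) ^ (a - 1) ≤ 2 * Real.log n ^ 2 := by
      have h2 : ((4 : ℝ)) ^ (a - 1) < x := by exact_mod_cast ha2
      nlinarith
    have h3 := Real.log_le_log (by positivity) h1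
    rw [Real.log_pow, Real.log_mul (by norm_num) (by positivity), Real.log_pow, ← ht, hlog4] at h3
    push_cast at h3
    have h4 : (a : ℝ) - 1 ≤ ((a - 1 : ℕ) : ℝ) := by
      rcases Nat.eq_zero_or_pos a with h0 | h0
      · rw [h0]; norm_num
      · rw [Nat.cast_sub h0]; norm_num
    have hl2'' : 0.6931471803 < Real.log 2 := Real.log_two_gt_d9
    by_contra hcon
    push Not at hcon
    nlinarith
  have ha4 : 8 ≤ a := by
    by_contra hcon
    push Not at hcon
    have h1 : x ≤ 4 ^ 7 := ha1.trans (Nat.pow_le_pow_right (by norm_num) (by omega))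
    have h2 : (x : ℝ) ≤ 4 ^ 7 := by exact_mod_cast h1
    have h3 : (72 : ℝ) ≤ Real.log n := by nlinarith
    have h4 : (128 : ℝ) < Real.log n := by
      have : Real.exp 1 ^ 11 ≤ Real.log n := by
        rw [← Real.exp_nat_mul, ← het]
        apply Real.exp_le_exp.2
        push_cast
        linarith
      have h5 : (2 : ℝ) ^ 11 ≤ Real.exp 1 ^ 11 := by
        gcongr
        have := Real.exp_one_gt_d9
        linarith
      have h6 : (2 : ℝ) ^ 11 = 2048 := by norm_num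
      rw [h6] at h5
      linarith
    nlinarith
  have haL : a ≤ L := by
    have h1 : (a : ℝ) < L + 1 := by
      by_contra hcon
      push Not at hcon
      have h2 : Real.log n ≤ (2 + 2 * t) * (4 * Real.log 2) := by
        calc Real.log n ≤ (L + 1) * Real.log 16 := hL3
          _ ≤ a * Real.log 16 := by
            apply mul_le_mul_of_nonneg_right hcon
            rw [hlog16]; positivity
          _ ≤ (2 + 2 * t) * (4 * Real.log 2) := by
            rw [hlog16]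
            apply mul_le_mul_of_nonneg_right ha3
            positivity
      nlinarith
    have h3 : a < L + 1 := by exact_mod_cast h1
    omega
  -- the sum
  have hsub : (Ioc (4 ^ a) (4 ^ L)).filter Nat.Prime ⊆ (Ioc x (Nat.sqrt n)).filter Nat.Prime := by
    intro p hp
    rw [mem_filter, mem_Ioc] at hp ⊢
    exact ⟨⟨lt_of_le_of_lt ha1 hp.1.1, hp.1.2.trans hL1⟩, hp.2⟩
  rw [← hx]
  refine le_trans ?_ (Finset.sum_le_sum_of_subset_of_nonneg hsub fun p _ _ => by positivity)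
  refine le_trans ?_ (blocks ha4 haL)
  have hH1 := log_add_one_le_harmonic L
  have hH2 := harmonic_le_one_add_log a
  have ha0 : (0 : ℝ) < a := by exact_mod_cast (by omega : 0 < a)
  have h1 : Real.log a ≤ Real.log 4 + t / 2 - 1 / 2 := by
    have h2 : Real.log a ≤ Real.log (4 * ((1 + t) / 2)) := by
      apply Real.log_le_log ha0
      linarith
    rw [Real.log_mul (by norm_num) (by positivity)] at h2
    have h3 := Real.log_le_sub_one_of_pos (x := (1 + t) / 2) (by positivity)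
    linarith
  have h2 : t - (Real.log 16 - 1) ≤ Real.log ((L + 1 : ℕ) : ℝ) := by
    have h16 : 0 < Real.log 16 := by rw [hlog16]; positivity
    have h3 : Real.log n / Real.log 16 ≤ ((L + 1 : ℕ) : ℝ) := by
      rw [div_le_iff₀ h16]
      push_cast
      exact hL3
    have h4 := Real.log_le_log (by positivity) h3
    rw [Real.log_div hl0.ne' h16.ne', ← ht] at h4
    have h5 := Real.log_le_sub_one_of_pos h16
    linarith
  rw [hlog4] at h1
  rw [hlog16] at h2
  push_cast at hH1 h2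
  linarith

end Cfsg.Agent.H71.Rg
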